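import Cfsg.Agent.Lib.Helper12.TCG.SuzQb200.TabT

/-! relator checks for SuzQb200, part 1 (generated, helper12) -/

set_option autoImplicit false
set_option maxRecDepth 100000
set_option Elab.async false

namespace Cfsg.Agent.Lib.Helper12.TCG.SuzQb200

open Cfsg.Agent.Lib.Helper12.TC Cfsg.Agent.Lib.Helper12.TCG

theorem hperm0_0 : permPartG 18364758544492077825 TT 0 tN 0 200 = true := by decide +kernel

theorem hperm2_0 : permPartG 18364758544492077825 TT 2 tN 0 200 = true := by decide +kernel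

theorem hperm4_0 : permPartG 18364758544492077825 TT 4 tN 0 200 = true := by decide +kernel

theorem hm0 : Fn.marksK TT tN [([0], 7)] = true := by decide +kernel

theorem hm2 : Fn.marksK TT tN [([4], 7)] = true := by decide +kernel

theorem hm3 : Fn.marksK TT tN [([0, 0, 3, 0, 3, 0, 3, 1, 2, 0, 2, 1, 2, 1, 2, 1, 1, 3], 1)] = true := by decide +kernel

theorem hm5 : Fn.marksK TT tN [([2, 1, 1, 2, 2, 1, 1, 2, 0, 3, 0, 0, 3, 3, 0, 0, 3, 1], 1)] = true := by decide +kernel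

theorem hm7 : Fn.marksK TT tN [([3, 1, 2, 1, 2, 1, 2, 2, 0, 3, 3, 0, 3, 0, 3, 0, 2, 1], 1)] = true := by decide +kernel

theorem hm8 : Fn.marksK TT tN [([0, 2, 0, 0, 3, 1, 1, 1, 2, 0, 0, 0, 2, 1, 1, 3, 1, 3, 3], 1)] = true := by decide +kernel

theorem hm9 : Fn.marksK TT tN [([1, 2, 0, 0, 0, 2, 1, 1, 2, 0, 0, 3, 1, 1, 1, 3, 0, 3, 3], 1)] = true := by decide +kernel

theorem hm11 : Fn.marksK TT tN [([1, 3, 1, 1, 2, 0, 0, 0, 2, 1, 1, 1, 3, 0, 0, 2, 0, 3, 3], 1)] = true := by decide +kernel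

theorem hm13 : Fn.marksK TT tN [([1, 2, 0, 0, 0, 3, 0, 0, 2, 1, 1, 2, 1, 1, 1, 3, 0, 3, 3], 1)] = true := by decide +kernel

theorem hm15 : Fn.marksK TT tN [([3, 0, 2, 2, 2, 1, 2, 2, 0, 3, 3, 0, 3, 3, 3, 1, 2, 1, 1], 1)] = true := by decide +kernel

theorem hm18 : Fn.marksK TT tN [([1, 2, 2, 1, 1, 2, 0, 3, 0, 2, 1, 2, 1, 3, 0, 0, 3, 3, 0, 3], 1)] = true := by decide +kernel

theorem hm20 : Fn.marksK TT tN [([3, 0, 2, 1, 1, 2, 2, 1, 3, 0, 2, 0, 3, 3, 0, 0, 3, 1, 2, 1], 1)] = true := by decide +kernel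

theorem hm22 : Fn.marksK TT tN [([2, 2, 1, 1, 2, 0, 3, 0, 3, 0, 2, 1, 2, 1, 3, 0, 0, 3, 3, 1], 1)] = true := by decide +kernel

theorem hm24 : Fn.marksK TT tN [([2, 2, 1, 1, 3, 3, 3, 3, 3, 0, 2, 2, 2, 2, 2, 0, 0, 3, 3, 1], 1)] = true := by decide +kernel

theorem hm26 : Fn.marksK TT tN [([3, 1, 2, 1, 3, 3, 1, 2, 0, 3, 0, 2, 2, 0, 3, 0, 2, 0, 0, 0], 1)] = true := by decide +kernel

theorem hm29 : Fn.marksK TT tN [([1, 2, 0, 0, 5, 1, 5, 1, 4, 0, 4, 0, 4, 1, 1, 3, 0, 3], 1)] = true := by decide +kernel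

theorem hm31 : Fn.marksK TT tN [([0, 0, 4, 1, 4, 0, 2, 0, 3, 1, 5, 0, 5, 1, 1, 4, 4, 4], 1)] = true := by decide +kernel

theorem hm33 : Fn.marksK TT tN [([3, 1, 2, 1, 2, 1, 2, 2, 4, 3, 3, 0, 3, 0, 3, 0, 2, 5], 1)] = true := by decide +kernel

theorem hm35 : Fn.marksK TT tN [([2, 0, 4, 1, 1, 1, 5, 2, 4, 0, 0, 0, 5, 1, 3, 1, 1, 1], 1)] = true := by decide +kernel

theorem hm37 : Fn.marksK TT tN [([0, 4, 0, 4, 0, 2, 1, 1, 2, 0, 0, 3, 1, 5, 1, 5, 1, 5, 5], 1)] = true := by decide +kernel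

theorem hm39 : Fn.marksK TT tN [([0, 4, 0, 4, 0, 3, 0, 0, 2, 1, 1, 2, 1, 5, 1, 5, 1, 5, 5], 1)] = true := by decide +kernel

theorem hm41 : Fn.marksK TT tN [([0, 3, 4, 1, 2, 0, 3, 4, 1, 2, 0, 5, 2, 1, 3, 0, 5, 2, 1, 3], 1)] = true := by decide +kernel

theorem hm43 : Fn.marksK TT tN [([0, 4, 1, 3, 4, 2, 0, 4, 0, 2, 1, 5, 1, 3, 5, 2, 0, 5, 1, 5], 1)] = true := by decide +kernel

theorem hm45 : Fn.marksK TT tN [([5, 2, 1, 3, 0, 5, 2, 1, 3, 0, 2, 0, 3, 4, 1, 2, 0, 3, 4, 1], 1)] = true := by decide +kernel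

theorem hm47 : Fn.marksK TT tN [([5, 2, 1, 3, 4, 3, 3, 1, 5, 0, 4, 0, 2, 2, 5, 2, 0, 3, 4, 0], 1)] = true := by decide +kernel

theorem hm49 : Fn.marksK TT tN [([0, 4, 3, 0, 3, 1, 2, 0, 5, 0, 4, 1, 3, 0, 2, 1, 2, 5, 1, 3], 1)] = true := by decide +kernel

theorem hm51 : Fn.marksK TT tN [([0, 1], 1)] = true := by decide +kernel

theorem hm53 : Fn.marksK TT tN [([2, 3], 1)] = true := by decide +kernel

theorem hm55 : Fn.marksK TT tN [([4, 5], 1)] = true := by decide +kernel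

end Cfsg.Agent.Lib.Helper12.TCG.SuzQb200
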