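import Cfsg.Agent.Lib.Helper12.TCG.SuzQb200.Rel0
import Cfsg.Agent.Lib.Helper12.TCG.SuzQb200.Rel1
import Cfsg.Agent.Lib.Helper12.TCG.SuzQb200.Tab
import Cfsg.Agent.Lib.Helper12.SuzM.Pres3

/-! the permutation representation for SuzQb200 (generated, helper12) -/

set_option autoImplicit false
set_option maxRecDepth 100000
set_option linter.unusedSimpArgs false
set_option Elab.async false

namespace Cfsg.Agent.Lib.Helper12.TCG.SuzQb200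

open Cfsg.Agent.Lib.Helper12.TC Cfsg.Agent.Lib.Helper12.TCG Cfsg.Agent.Lib.Helper12.SuzM.Pres3

theorem htN : tN = cN := rfl

theorem hperm0 : permOneG 18364758544492077825 TT 0 tN = true :=
  permOneG_of_OK (permOK_step hperm0_0 rfl
    (permOK_start 18364758544492077825 TT 0 tN))

theorem hperm1 : permOneG 18364758544492077825 TT 1 tN = true :=
  permOneG_of_OK (permOK_step hperm1_0 rfl
    (permOK_start 18364758544492077825 TT 1 tN))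

theorem hperm2 : permOneG 18364758544492077825 TT 2 tN = true :=
  permOneG_of_OK (permOK_step hperm2_0 rfl
    (permOK_start 18364758544492077825 TT 2 tN))

theorem hperm3 : permOneG 18364758544492077825 TT 3 tN = true :=
  permOneG_of_OK (permOK_step hperm3_0 rfl
    (permOK_start 18364758544492077825 TT 3 tN))

theorem hperm4 : permOneG 18364758544492077825 TT 4 tN = true :=
  permOneG_of_OK (permOK_step hperm4_0 rfl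
    (permOK_start 18364758544492077825 TT 4 tN))

theorem hperm5 : permOneG 18364758544492077825 TT 5 tN = true :=
  permOneG_of_OK (permOK_step hperm5_0 rfl
    (permOK_start 18364758544492077825 TT 5 tN))

theorem hperm : permG cIV TT 6 cN = true := by
  refine permG_of_ones (fun x hx => ?_)
  interval_cases x
  · exact hperm0
  · exact hperm1
  · exact hperm2
  · exact hperm3
  · exact hperm4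
  · exact hperm5

/-- words as powers -/
def specs : List (List ℕ × ℕ) :=
  [([0], 7),
   ([2], 7),
   ([4], 7),
   ([0, 0, 3, 0, 3, 0, 3, 1, 2, 0, 2, 1, 2, 1, 2, 1, 1, 3], 1),
   ([3, 0, 0, 3, 3, 0, 0, 3, 0, 2, 1, 1, 2, 2, 1, 1, 2, 1], 1),
   ([2, 1, 1, 2, 2, 1, 1, 2, 0, 3, 0, 0, 3, 3, 0, 0, 3, 1], 1),
   ([2, 0, 3, 0, 3, 1, 2, 2, 0, 3, 3, 0, 2, 1, 2, 1, 3, 1], 1),
   ([3, 1, 2, 1, 2, 1, 2, 2, 0, 3, 3, 0, 3, 0, 3, 0, 2, 1], 1),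
   ([0, 2, 0, 0, 3, 1, 1, 1, 2, 0, 0, 0, 2, 1, 1, 3, 1, 3, 3], 1),
   ([1, 2, 0, 0, 0, 2, 1, 1, 2, 0, 0, 3, 1, 1, 1, 3, 0, 3, 3], 1),
   ([0, 3, 1, 1, 3, 0, 3, 1, 2, 0, 2, 1, 2, 0, 0, 2, 1, 3, 3], 1),
   ([1, 3, 1, 1, 2, 0, 0, 0, 2, 1, 1, 1, 3, 0, 0, 2, 0, 3, 3], 1),
   ([0, 3, 1, 1, 1, 3, 0, 0, 2, 1, 1, 2, 0, 0, 0, 2, 1, 3, 3], 1),
   ([1, 2, 0, 0, 0, 3, 0, 0, 2, 1, 1, 2, 1, 1, 1, 3, 0, 3, 3], 1),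
   ([2, 1, 3, 3, 1, 2, 1, 3, 0, 2, 0, 3, 0, 2, 2, 0, 3, 1, 1], 1),
   ([3, 0, 2, 2, 2, 1, 2, 2, 0, 3, 3, 0, 3, 3, 3, 1, 2, 1, 1], 1),
   ([3, 1, 3, 3, 0, 2, 2, 2, 0, 3, 3, 3, 1, 2, 2, 0, 2, 1, 1], 1),
   ([1, 3, 0, 3, 1, 1, 3, 0, 2, 1, 2, 0, 0, 2, 1, 2, 0, 2, 2, 2], 1),
   ([1, 2, 2, 1, 1, 2, 0, 3, 0, 2, 1, 2, 1, 3, 0, 0, 3, 3, 0, 3], 1),
   ([2, 2, 2, 0, 3, 3, 1, 3, 0, 2, 0, 2, 2, 1, 3, 3, 3, 0, 0, 0], 1),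
   ([3, 0, 2, 1, 1, 2, 2, 1, 3, 0, 2, 0, 3, 3, 0, 0, 3, 1, 2, 1], 1),
   ([2, 1, 1, 2, 2, 1, 3, 0, 3, 0, 2, 1, 2, 0, 3, 3, 0, 0, 3, 1], 1),
   ([2, 2, 1, 1, 2, 0, 3, 0, 3, 0, 2, 1, 2, 1, 3, 0, 0, 3, 3, 1], 1),
   ([3, 1, 2, 2, 1, 1, 2, 0, 3, 0, 2, 1, 3, 0, 0, 3, 3, 0, 2, 1], 1),
   ([2, 2, 1, 1, 3, 3, 3, 3, 3, 0, 2, 2, 2, 2, 2, 0, 0, 3, 3, 1], 1),
   ([2, 0, 3, 3, 0, 0, 3, 1, 2, 0, 3, 0, 2, 1, 1, 2, 2, 1, 3, 1], 1),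
   ([3, 1, 2, 1, 3, 3, 1, 2, 0, 3, 0, 2, 2, 0, 3, 0, 2, 0, 0, 0], 1),
   ([2, 2, 1, 3, 3, 3, 1, 2, 0, 3, 0, 2, 2, 2, 0, 3, 3, 0, 0, 0], 1),
   ([3, 1, 3, 1, 3, 1, 3, 1, 4, 0, 2, 0, 2, 0, 2, 0, 2, 5], 1),
   ([1, 2, 0, 0, 5, 1, 5, 1, 4, 0, 4, 0, 4, 1, 1, 3, 0, 3], 1),
   ([1, 1, 2, 4, 0, 4, 0, 4, 1, 5, 1, 5, 3, 0, 0, 2, 2, 2], 1),
   ([0, 0, 4, 1, 4, 0, 2, 0, 3, 1, 5, 0, 5, 1, 1, 4, 4, 4], 1),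
   ([1, 1, 2, 2, 1, 1, 2, 2, 4, 3, 3, 0, 0, 3, 3, 0, 0, 5], 1),
   ([3, 1, 2, 1, 2, 1, 2, 2, 4, 3, 3, 0, 3, 0, 3, 0, 2, 5], 1),
   ([1, 4, 0, 4, 2, 2, 2, 2, 4, 3, 3, 3, 3, 5, 1, 5, 0, 4], 1),
   ([2, 0, 4, 1, 1, 1, 5, 2, 4, 0, 0, 0, 5, 1, 3, 1, 1, 1], 1),
   ([1, 1, 5, 1, 1, 4, 0, 5, 2, 4, 1, 5, 0, 0, 4, 0, 0, 5], 1),
   ([0, 4, 0, 4, 0, 2, 1, 1, 2, 0, 0, 3, 1, 5, 1, 5, 1, 5, 5], 1),
   ([3, 3, 4, 0, 5, 2, 2, 1, 2, 0, 3, 3, 4, 1, 5, 2, 2, 0, 0], 1),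
   ([0, 4, 0, 4, 0, 3, 0, 0, 2, 1, 1, 2, 1, 5, 1, 5, 1, 5, 5], 1),
   ([0, 2, 1, 5, 1, 5, 0, 0, 2, 1, 1, 4, 0, 4, 0, 3, 1, 5, 5], 1),
   ([0, 3, 4, 1, 2, 0, 3, 4, 1, 2, 0, 5, 2, 1, 3, 0, 5, 2, 1, 3], 1),
   ([4, 2, 1, 1, 2, 5, 0, 0, 0, 2, 1, 1, 1, 4, 3, 0, 0, 3, 5, 1], 1),
   ([0, 4, 1, 3, 4, 2, 0, 4, 0, 2, 1, 5, 1, 3, 5, 2, 0, 5, 1, 5], 1),
   ([1, 3, 4, 1, 3, 5, 0, 4, 0, 2, 1, 5, 1, 4, 2, 0, 5, 2, 0, 3], 1),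
   ([5, 2, 1, 3, 0, 5, 2, 1, 3, 0, 2, 0, 3, 4, 1, 2, 0, 3, 4, 1], 1),
   ([1, 2, 2, 4, 0, 3, 3, 1, 2, 0, 3, 0, 2, 2, 1, 5, 3, 3, 0, 2], 1),
   ([5, 2, 1, 3, 4, 3, 3, 1, 5, 0, 4, 0, 2, 2, 5, 2, 0, 3, 4, 0], 1),
   ([5, 1, 5, 1, 5, 1, 5, 1, 5, 0, 4, 0, 4, 0, 4, 0, 4, 0, 4, 1], 1),
   ([0, 4, 3, 0, 3, 1, 2, 0, 5, 0, 4, 1, 3, 0, 2, 1, 2, 5, 1, 3], 1),
   ([1, 1, 1, 4, 3, 0, 0, 3, 5, 0, 4, 2, 1, 1, 2, 5, 0, 0, 0, 3], 1),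
   ([0, 1], 1),
   ([1, 0], 1),
   ([2, 3], 1),
   ([3, 2], 1),
   ([4, 5], 1),
   ([5, 4], 1),
   ([], 1)]

theorem hspecs : baseL = specs.map (fun s => wpow s.1 s.2) := by
  decide +kernel

theorem hfixall : Fn.FixAll TT tN specs :=
  Fn.fixAll_cons (Fn.fix_of_marksK hm0)
    (Fn.fixAll_cons (Fn.fix_of_marksK hm1)
    (Fn.fixAll_cons (Fn.fix_of_marksK hm2)
    (Fn.fixAll_cons (Fn.fix_of_marksK hm3)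
    (Fn.fixAll_cons (Fn.fix_of_marksK hm4)
    (Fn.fixAll_cons (Fn.fix_of_marksK hm5)
    (Fn.fixAll_cons (Fn.fix_of_marksK hm6)
    (Fn.fixAll_cons (Fn.fix_of_marksK hm7)
    (Fn.fixAll_cons (Fn.fix_of_marksK hm8)
    (Fn.fixAll_cons (Fn.fix_of_marksK hm9)
    (Fn.fixAll_cons (Fn.fix_of_marksK hm10)
    (Fn.fixAll_cons (Fn.fix_of_marksK hm11)
    (Fn.fixAll_cons (Fn.fix_of_marksK hm12)
    (Fn.fixAll_cons (Fn.fix_of_marksK hm13)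
    (Fn.fixAll_cons (Fn.fix_of_marksK hm14)
    (Fn.fixAll_cons (Fn.fix_of_marksK hm15)
    (Fn.fixAll_cons (Fn.fix_of_marksK hm16)
    (Fn.fixAll_cons (Fn.fix_of_marksK hm17)
    (Fn.fixAll_cons (Fn.fix_of_marksK hm18)
    (Fn.fixAll_cons (Fn.fix_of_marksK hm19)
    (Fn.fixAll_cons (Fn.fix_of_marksK hm20)
    (Fn.fixAll_cons (Fn.fix_of_marksK hm21)
    (Fn.fixAll_cons (Fn.fix_of_marksK hm22)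
    (Fn.fixAll_cons (Fn.fix_of_marksK hm23)
    (Fn.fixAll_cons (Fn.fix_of_marksK hm24)
    (Fn.fixAll_cons (Fn.fix_of_marksK hm25)
    (Fn.fixAll_cons (Fn.fix_of_marksK hm26)
    (Fn.fixAll_cons (Fn.fix_of_marksK hm27)
    (Fn.fixAll_cons (Fn.fix_of_marksK hm28)
    (Fn.fixAll_cons (Fn.fix_of_marksK hm29)
    (Fn.fixAll_cons (Fn.fix_of_marksK hm30)
    (Fn.fixAll_cons (Fn.fix_of_marksK hm31)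
    (Fn.fixAll_cons (Fn.fix_of_marksK hm32)
    (Fn.fixAll_cons (Fn.fix_of_marksK hm33)
    (Fn.fixAll_cons (Fn.fix_of_marksK hm34)
    (Fn.fixAll_cons (Fn.fix_of_marksK hm35)
    (Fn.fixAll_cons (Fn.fix_of_marksK hm36)
    (Fn.fixAll_cons (Fn.fix_of_marksK hm37)
    (Fn.fixAll_cons (Fn.fix_of_marksK hm38)
    (Fn.fixAll_cons (Fn.fix_of_marksK hm39)
    (Fn.fixAll_cons (Fn.fix_of_marksK hm40)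
    (Fn.fixAll_cons (Fn.fix_of_marksK hm41)
    (Fn.fixAll_cons (Fn.fix_of_marksK hm42)
    (Fn.fixAll_cons (Fn.fix_of_marksK hm43)
    (Fn.fixAll_cons (Fn.fix_of_marksK hm44)
    (Fn.fixAll_cons (Fn.fix_of_marksK hm45)
    (Fn.fixAll_cons (Fn.fix_of_marksK hm46)
    (Fn.fixAll_cons (Fn.fix_of_marksK hm47)
    (Fn.fixAll_cons (Fn.fix_of_marksK hm48)
    (Fn.fixAll_cons (Fn.fix_of_marksK hm49)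
    (Fn.fixAll_cons (Fn.fix_of_marksK hm50)
    (Fn.fixAll_cons (Fn.fix_of_marksK hm51)
    (Fn.fixAll_cons (Fn.fix_of_marksK hm52)
    (Fn.fixAll_cons (Fn.fix_of_marksK hm53)
    (Fn.fixAll_cons (Fn.fix_of_marksK hm54)
    (Fn.fixAll_cons (Fn.fix_of_marksK hm55)
    (Fn.fixAll_cons (Fn.fix_of_marksK hm56)
    (Fn.fixAll_cons (Fn.fix_of_marksK hm57)
    (Fn.fixAll_nil TT tN))))))))))))))))))))))))))))))))))))))))))))))))))))))))))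

theorem hrels : Fn.relsK TT cN baseL = true := by
  rw [hspecs]
  exact Fn.relsK_of_fixAll hfixall

theorem hsub : Fn.subK TT 6 sw = true := by decide +kernel

theorem htrans : Fn.transK TT 6 cN sw = true := by decide +kernel

end Cfsg.Agent.Lib.Helper12.TCG.SuzQb200
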