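import Cfsg.Agent.Lib.Helper12.TCG.SuzQb200.TabT

/-! relator checks for SuzQb200, part 0 (generated, helper12) -/

set_option autoImplicit false
set_option maxRecDepth 100000
set_option Elab.async false

namespace Cfsg.Agent.Lib.Helper12.TCG.SuzQb200

open Cfsg.Agent.Lib.Helper12.TC Cfsg.Agent.Lib.Helper12.TCG

theorem hperm1_0 : permPartG 18364758544492077825 TT 1 tN 0 200 = true := by decide +kernel

theorem hperm3_0 : permPartG 18364758544492077825 TT 3 tN 0 200 = true := by decide +kernel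

theorem hperm5_0 : permPartG 18364758544492077825 TT 5 tN 0 200 = true := by decide +kernel

theorem hm1 : Fn.marksK TT tN [([2], 7)] = true := by decide +kernel

theorem hm4 : Fn.marksK TT tN [([3, 0, 0, 3, 3, 0, 0, 3, 0, 2, 1, 1, 2, 2, 1, 1, 2, 1], 1)] = true := by decide +kernel

theorem hm6 : Fn.marksK TT tN [([2, 0, 3, 0, 3, 1, 2, 2, 0, 3, 3, 0, 2, 1, 2, 1, 3, 1], 1)] = true := by decide +kernel

theorem hm10 : Fn.marksK TT tN [([0, 3, 1, 1, 3, 0, 3, 1, 2, 0, 2, 1, 2, 0, 0, 2, 1, 3, 3], 1)] = true := by decide +kernel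

theorem hm12 : Fn.marksK TT tN [([0, 3, 1, 1, 1, 3, 0, 0, 2, 1, 1, 2, 0, 0, 0, 2, 1, 3, 3], 1)] = true := by decide +kernel

theorem hm14 : Fn.marksK TT tN [([2, 1, 3, 3, 1, 2, 1, 3, 0, 2, 0, 3, 0, 2, 2, 0, 3, 1, 1], 1)] = true := by decide +kernel

theorem hm16 : Fn.marksK TT tN [([3, 1, 3, 3, 0, 2, 2, 2, 0, 3, 3, 3, 1, 2, 2, 0, 2, 1, 1], 1)] = true := by decide +kernel

theorem hm17 : Fn.marksK TT tN [([1, 3, 0, 3, 1, 1, 3, 0, 2, 1, 2, 0, 0, 2, 1, 2, 0, 2, 2, 2], 1)] = true := by decide +kernel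

theorem hm19 : Fn.marksK TT tN [([2, 2, 2, 0, 3, 3, 1, 3, 0, 2, 0, 2, 2, 1, 3, 3, 3, 0, 0, 0], 1)] = true := by decide +kernel

theorem hm21 : Fn.marksK TT tN [([2, 1, 1, 2, 2, 1, 3, 0, 3, 0, 2, 1, 2, 0, 3, 3, 0, 0, 3, 1], 1)] = true := by decide +kernel

theorem hm23 : Fn.marksK TT tN [([3, 1, 2, 2, 1, 1, 2, 0, 3, 0, 2, 1, 3, 0, 0, 3, 3, 0, 2, 1], 1)] = true := by decide +kernel

theorem hm25 : Fn.marksK TT tN [([2, 0, 3, 3, 0, 0, 3, 1, 2, 0, 3, 0, 2, 1, 1, 2, 2, 1, 3, 1], 1)] = true := by decide +kernel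

theorem hm27 : Fn.marksK TT tN [([2, 2, 1, 3, 3, 3, 1, 2, 0, 3, 0, 2, 2, 2, 0, 3, 3, 0, 0, 0], 1)] = true := by decide +kernel

theorem hm28 : Fn.marksK TT tN [([3, 1, 3, 1, 3, 1, 3, 1, 4, 0, 2, 0, 2, 0, 2, 0, 2, 5], 1)] = true := by decide +kernel

theorem hm30 : Fn.marksK TT tN [([1, 1, 2, 4, 0, 4, 0, 4, 1, 5, 1, 5, 3, 0, 0, 2, 2, 2], 1)] = true := by decide +kernel

theorem hm32 : Fn.marksK TT tN [([1, 1, 2, 2, 1, 1, 2, 2, 4, 3, 3, 0, 0, 3, 3, 0, 0, 5], 1)] = true := by decide +kernel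

theorem hm34 : Fn.marksK TT tN [([1, 4, 0, 4, 2, 2, 2, 2, 4, 3, 3, 3, 3, 5, 1, 5, 0, 4], 1)] = true := by decide +kernel

theorem hm36 : Fn.marksK TT tN [([1, 1, 5, 1, 1, 4, 0, 5, 2, 4, 1, 5, 0, 0, 4, 0, 0, 5], 1)] = true := by decide +kernel

theorem hm38 : Fn.marksK TT tN [([3, 3, 4, 0, 5, 2, 2, 1, 2, 0, 3, 3, 4, 1, 5, 2, 2, 0, 0], 1)] = true := by decide +kernel

theorem hm40 : Fn.marksK TT tN [([0, 2, 1, 5, 1, 5, 0, 0, 2, 1, 1, 4, 0, 4, 0, 3, 1, 5, 5], 1)] = true := by decide +kernel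

theorem hm42 : Fn.marksK TT tN [([4, 2, 1, 1, 2, 5, 0, 0, 0, 2, 1, 1, 1, 4, 3, 0, 0, 3, 5, 1], 1)] = true := by decide +kernel

theorem hm44 : Fn.marksK TT tN [([1, 3, 4, 1, 3, 5, 0, 4, 0, 2, 1, 5, 1, 4, 2, 0, 5, 2, 0, 3], 1)] = true := by decide +kernel

theorem hm46 : Fn.marksK TT tN [([1, 2, 2, 4, 0, 3, 3, 1, 2, 0, 3, 0, 2, 2, 1, 5, 3, 3, 0, 2], 1)] = true := by decide +kernel

theorem hm48 : Fn.marksK TT tN [([5, 1, 5, 1, 5, 1, 5, 1, 5, 0, 4, 0, 4, 0, 4, 0, 4, 0, 4, 1], 1)] = true := by decide +kernel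

theorem hm50 : Fn.marksK TT tN [([1, 1, 1, 4, 3, 0, 0, 3, 5, 0, 4, 2, 1, 1, 2, 5, 0, 0, 0, 3], 1)] = true := by decide +kernel

theorem hm52 : Fn.marksK TT tN [([1, 0], 1)] = true := by decide +kernel

theorem hm54 : Fn.marksK TT tN [([3, 2], 1)] = true := by decide +kernel

theorem hm56 : Fn.marksK TT tN [([5, 4], 1)] = true := by decide +kernel

theorem hm57 : Fn.marksK TT tN [([], 1)] = true := by decide +kernel

end Cfsg.Agent.Lib.Helper12.TCG.SuzQb200
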